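import Cfsg.Agent.SL2Recognition.Offender
import Cfsg.Agent.WeakClosed.TorusCore
import Cfsg.Agent.ConjFunctor.Basic

/-! Root pairs of offenders: the hypotheses, conjugates of the subgroup `M`, and the subgroups generated by conjugates
of an offender inside `p`-subgroups. -/

set_option autoImplicit false
set_option linter.style.haveILetI false

namespace CfsgLib.FFRootGroups

open Subgroup CfsgLib.SL2Recognition CfsgLib.WeakClosed.Torus
open scoped MatrixGroups

variable {G V : Type*} [Group G] [AddCommGroup V] {σ : G →* AddMonoid.End V} {p : ℕ}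

/-- The conjugate `g H g⁻¹`. -/
abbrev cj (g : G) (H : Subgroup G) : Subgroup G := H.map (MulAut.conj g).toMonoidHom

theorem mem_cj {g x : G} {H : Subgroup G} : x ∈ cj g H ↔ g⁻¹ * x * g ∈ H := by
  constructor
  · rintro ⟨y, hy, rfl⟩; simpa [mul_assoc] using hy
  · exact fun h => ⟨_, h, by simp [mul_assoc]⟩

theorem cj_cj (g h : G) (H : Subgroup G) : cj g (cj h H) = cj (g * h) H := by
  ext x; simp only [mem_cj, mul_inv_rev, mul_assoc]

theorem cj_one (H : Subgroup G) : cj 1 H = H := by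
  ext x; simp [mem_cj]

theorem cj_inv_cj (g : G) (H : Subgroup G) : cj g⁻¹ (cj g H) = H := by
  rw [cj_cj, inv_mul_cancel, cj_one]

theorem cj_mono {g : G} {H K : Subgroup G} (h : H ≤ K) : cj g H ≤ cj g K := map_mono h

theorem cj_eq_of_mem {g : G} {H : Subgroup G} (hg : g ∈ normalizer (H : Set G)) : cj g H = H :=
  mem_normalizer_iff_map_conj_eq.mp hg

theorem card_cj (g : G) (H : Subgroup G) : Nat.card (cj g H) = Nat.card H :=
  card_map_of_injective (MulAut.conj g).injective

/-- Every proper overgroup of the Sylow subgroup `T` lies in `M`, the action is faithful, `O_p = 1`, and only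
elements of `M` centralize the fixed points of `T`. -/
structure Setting (σ : G →* AddMonoid.End V) (p : ℕ) (T : Sylow p G) (M : Subgroup G) : Prop where
  inj : Function.Injective σ
  nil : ∀ v : V, p • v = 0
  ne_top : M ≠ ⊤
  maximal : ∀ H : Subgroup G, (T : Subgroup G) ≤ H → H ≠ ⊤ → H ≤ M
  core : Cfsg.pCore p G = ⊥
  cent : ∀ g : G, (∀ v ∈ fix σ (T : Subgroup G), σ g v = v) → g ∈ M

/-- `K` is a conjugate of `M`. -/
def IsConjOf (M K : Subgroup G) : Prop := ∃ g : G, K = cj g M

namespace Setting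

variable [Finite G] [Fact p.Prime] {T : Sylow p G} {M K K' : Subgroup G}

theorem T_ne_top (h : Setting σ p T M) : (T : Subgroup G) ≠ ⊤ := by
  intro e
  have hG : IsPGroup p (⊤ : Subgroup G) := e ▸ T.isPGroup'
  have : (⊤ : Subgroup G) ≤ Cfsg.pCore p G := le_sSup ⟨inferInstance, hG⟩
  rw [h.core] at this
  exact h.ne_top (top_le_iff.mp (this.trans bot_le))

theorem le (h : Setting σ p T M) : (T : Subgroup G) ≤ M := h.maximal _ le_rfl h.T_ne_top

/-- `M` is the only conjugate of `M` containing `T`. -/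
theorem eq_of_T_le (h : Setting σ p T M) {g : G} (hT : (T : Subgroup G) ≤ cj g M) : cj g M = M := by
  refine eq_of_le_of_card_ge (h.maximal _ hT fun e => h.ne_top (eq_top_of_card_eq M ?_)) (card_cj g M).ge
  rw [← card_cj g M, e, card_top]

theorem cj_eq_self_iff (h : Setting σ p T M) (hT : (T : Subgroup G) ≠ ⊥) {g : G} : cj g M = M ↔ g ∈ M := by
  refine ⟨fun e => ?_, fun hg => cj_eq_of_mem (le_normalizer hg)⟩
  have hN : normalizer (M : Set G) ≠ ⊤ := by
    intro hN
    haveI : M.Normal := normalizer_eq_top_iff.mp hN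
    refine h.ne_top (top_le_iff.mp ?_)
    rw [← Sylow.normalizer_sup_eq_top' T h.le]
    refine sup_le (h.maximal _ le_normalizer fun e => hT ?_) le_rfl
    haveI : (T : Subgroup G).Normal := normalizer_eq_top_iff.mp e
    exact le_bot_iff.mp (h.core ▸ le_sSup ⟨inferInstance, T.isPGroup'⟩)
  exact h.maximal _ (h.le.trans le_normalizer) hN (mem_normalizer_iff_map_conj_eq.mpr e)

/-- A Sylow subgroup lies in only one conjugate of `M`. -/
theorem conj_unique (h : Setting σ p T M) (S : Sylow p G) (hK : IsConjOf M K) (hK' : IsConjOf M K')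
    (h1 : (S : Subgroup G) ≤ K) (h2 : (S : Subgroup G) ≤ K') : K = K' := by
  obtain ⟨c, hc⟩ := MulAction.exists_smul_eq G T S
  have hS : (S : Subgroup G) = cj c T := by rw [← hc]; rfl
  have key : ∀ L, IsConjOf M L → (S : Subgroup G) ≤ L → L = cj c M := by
    rintro _ ⟨a, rfl⟩ hle
    have hT : (T : Subgroup G) ≤ cj (c⁻¹ * a) M := by
      rw [← cj_cj, ← cj_inv_cj c (T : Subgroup G), ← hS]
      exact cj_mono hle
    conv_rhs => rw [← h.eq_of_T_le hT, cj_cj, mul_inv_cancel_left]
  rw [key K hK h1, key K' hK' h2]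

/-- Every `p`-subgroup lies in a Sylow subgroup inside a conjugate of `M`. -/
theorem exists_sylow_conj (h : Setting σ p T M) {D : Subgroup G} (hD : IsPGroup p D) :
    ∃ (S : Sylow p G) (K : Subgroup G), D ≤ (S : Subgroup G) ∧ (S : Subgroup G) ≤ K ∧ IsConjOf M K := by
  obtain ⟨S, hS⟩ := hD.exists_le_sylow
  obtain ⟨c, hc⟩ := MulAction.exists_smul_eq G T S
  exact ⟨S, cj c M, hS, by rw [← hc]; exact cj_mono h.le, c, rfl⟩

/-- A `p`-subgroup of a conjugate `K` of `M` lies in a Sylow subgroup of `G` inside `K`. -/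
theorem exists_sylow_le (h : Setting σ p T M) (hK : IsConjOf M K) {D : Subgroup G} (hD : IsPGroup p D)
    (hDK : D ≤ K) : ∃ S : Sylow p G, D ≤ (S : Subgroup G) ∧ (S : Subgroup G) ≤ K := by
  obtain ⟨g, rfl⟩ := hK
  obtain ⟨S₀, hS₀⟩ := (hD.comap_subtype (K := cj g M)).exists_le_sylow
  have hTg : (T : Subgroup G).map (MulAut.conj g).toMonoidHom ≤ cj g M := cj_mono h.le
  let S₁ : Subgroup G := (S₀ : Subgroup (cj g M)).map (cj g M).subtype
  have hS₁ : IsPGroup p S₁ := S₀.isPGroup'.map _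
  obtain ⟨S, hS⟩ := hS₁.exists_le_sylow
  have hle : Nat.card (S : Subgroup G) ≤ Nat.card S₁ := by
    have h1 := S₀.card_eq_multiplicity
    have h2 := S.card_eq_multiplicity
    have h3 : Nat.card (S : Subgroup G) ∣ Nat.card (cj g M) := by
      rw [show Nat.card (S : Subgroup G) = Nat.card (T : Subgroup G) by
        rw [S.card_eq_multiplicity, T.card_eq_multiplicity], ← card_cj g (T : Subgroup G)]
      exact card_dvd_of_le hTg
    rw [card_map_of_injective (cj g M).subtype_injective, h1, h2]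
    refine Nat.pow_le_pow_right (Fact.out : p.Prime).pos ?_
    rw [h2] at h3
    exact ((Fact.out : p.Prime).pow_dvd_iff_le_factorization Nat.card_pos.ne').mp h3
  refine ⟨S, fun x hx => hS ⟨⟨x, hDK hx⟩, hS₀ hx, rfl⟩, ?_⟩
  rw [← eq_of_le_of_card_ge hS hle]
  exact map_subtype_le _

theorem cent_conj (h : Setting σ p T M) (S : Sylow p G) (hK : IsConjOf M K) (hSK : (S : Subgroup G) ≤ K) {g : G}
    (hg : ∀ v ∈ fix σ (S : Subgroup G), σ g v = v) : g ∈ K := by
  obtain ⟨c, hc⟩ := MulAction.exists_smul_eq G T S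
  have hS : (S : Subgroup G) = cj c T := by rw [← hc]; rfl
  have hKc : K = cj c M := h.conj_unique S hK ⟨c, rfl⟩ hSK (hS ▸ cj_mono h.le)
  rw [hKc, mem_cj]
  refine h.cent _ fun v hv => ?_
  rw [apply_mul, apply_mul, hg (σ c v) (hS ▸ (mem_fix_conj σ).2 (by rw [apply_inv_apply]; exact hv)),
    apply_inv_apply]

end Setting

/-- The subgroup generated by the conjugates of `B` inside `Q`. -/
def gen (B Q : Subgroup G) : Subgroup G := sSup {X : Subgroup G | X ≤ Q ∧ ∃ g : G, X = cj g B}

theorem gen_le (B Q : Subgroup G) : gen B Q ≤ Q := sSup_le fun _ h => h.1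

theorem le_gen {B Q : Subgroup G} {g : G} (h : cj g B ≤ Q) : cj g B ≤ gen B Q := le_sSup ⟨h, g, rfl⟩

theorem gen_mono {B Q Q' : Subgroup G} (h : Q ≤ Q') : gen B Q ≤ gen B Q' :=
  sSup_le_sSup fun _ hX => ⟨hX.1.trans h, hX.2⟩

theorem gen_gen (B Q : Subgroup G) : gen B (gen B Q) = gen B Q :=
  le_antisymm (gen_le _ _) (sSup_le fun X ⟨hX, g, he⟩ => le_sSup ⟨le_sSup ⟨hX, g, he⟩, g, he⟩)

theorem gen_eq_of_le {B Q R : Subgroup G} (h1 : gen B Q ≤ R) (h2 : R ≤ Q) : gen B R = gen B Q :=
  le_antisymm (gen_mono h2) ((gen_gen B Q).ge.trans (gen_mono h1))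

theorem normalizer_le_gen (B Q : Subgroup G) : normalizer (Q : Set G) ≤ normalizer (gen B Q : Set G) := by
  have key : ∀ g ∈ normalizer (Q : Set G), cj g (gen B Q) ≤ gen B Q := by
    intro g hg
    rw [cj, gen, (Subgroup.gc_map_comap _).l_sSup]
    refine iSup₂_le fun X ⟨hX, h, he⟩ => le_sSup ⟨?_, g * h, ?_⟩
    · rw [← cj_eq_of_mem hg]; exact cj_mono hX
    · rw [he, ← cj_cj]
  intro g hg
  refine mem_normalizer_iff_map_conj_eq.mpr (le_antisymm (key g hg) ?_)
  have := cj_mono (g := g) (key g⁻¹ (inv_mem hg))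
  rwa [cj_cj, mul_inv_cancel, cj_one] at this

/-- If the normalizer of `D` in a `p`-group adds no conjugates of `B`, then `D` has all of them. -/
theorem gen_eq_of_inf_normalizer [Finite G] [Fact p.Prime] {B D Q : Subgroup G} (hQ : IsPGroup p Q)
    (h : gen B (Q ⊓ normalizer (D : Set G)) = D) : gen B Q = D ∧ Q ≤ normalizer (D : Set G) := by
  have hQN : Q ≤ normalizer (D : Set G) := by
    by_contra hne
    set N := Q ⊓ normalizer (D : Set G) with hN
    have hlt : N < Q := lt_of_le_not_ge inf_le_left fun hle => hne (hle.trans inf_le_right)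
    obtain ⟨x, ⟨hxQ, hxN⟩, hx⟩ := SetLike.exists_of_lt (CfsgLib.ConjFunctor.lt_inf_normalizer hQ hlt)
    exact hx ⟨hxQ, h ▸ normalizer_le_gen B N hxN⟩
  exact ⟨by rwa [inf_eq_left.mpr hQN] at h, hQN⟩

end CfsgLib.FFRootGroups
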