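import Cfsg.Agent.FFRootGroups.Basic
import Cfsg.Agent.PLocal.GlaubermanZJ
import Mathlib.LinearAlgebra.Dimension.Free

/-! In a group with a unique maximal overgroup `M` of a Sylow `p`-subgroup `T`, with `O_p = 1` and
`C(C_V(T)) ≤ M`, every strict offender is a root group of an `SL₂(q)` acting naturally on `V` modulo its fixed points.

Proof by induction on the order: if the subgroups generated by conjugates of the offender all have their normalizers
in the conjugates of `M` containing them, a minimal overgroup outside `M` works; otherwise a largest exception gives a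
proper subgroup of the same kind, and a pair found on the fixed points of its `p`-core lifts. -/

set_option autoImplicit false
set_option linter.style.haveILetI false

namespace CfsgLib.FFRootGroups

open Subgroup CfsgLib.SL2Recognition CfsgLib.WeakClosed.Torus
open scoped MatrixGroups Matrix

universe u v

variable {G : Type u} {V : Type v} [Group G] [AddCommGroup V] {σ : G →* AddMonoid.End V} {p : ℕ}

/-- `L` is `SL₂(q)` generated by the root group `B` and a conjugate of it, natural on `V` modulo its fixed points. -/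
structure IsPair (σ : G →* AddMonoid.End V) (B L : Subgroup G) : Prop where
  le : B ≤ L
  gen : ∃ x ∈ L, B ⊔ cj x B = L
  exact : Nat.card B * Nat.card (fix σ B) = Nat.card V
  natural : ∃ (F : Type) (_ : Field F) (_ : Fintype F) (φ : L ≃* SL(2, F)) (ψ : V →+ (Fin 2 → F)),
    Fintype.card F = Nat.card B ∧ Function.Surjective ψ ∧ (∀ v, ψ v = 0 ↔ v ∈ fix σ L) ∧
      ∀ (g : L) v, ψ (σ g v) = (φ g).1 *ᵥ ψ v

theorem card_fix_cj (g : G) (A : Subgroup G) : Nat.card (fix σ (cj g A)) = Nat.card (fix σ A) :=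
  card_fix_conj σ A g

theorem fix_sup (A B : Subgroup G) : fix σ (A ⊔ B) = fix σ A ⊓ fix σ B := by
  refine le_antisymm (le_inf (fix_anti σ le_sup_left) (fix_anti σ le_sup_right)) fun v hv => ?_
  let S : Subgroup G :=
    { carrier := {g | σ g v = v}
      one_mem' := apply_one σ v
      mul_mem' := fun {g k} hg hk => by
        show σ (g * k) v = v
        rw [apply_mul, show σ k v = v from hk, show σ g v = v from hg]
      inv_mem' := fun {g} hg => by
        show σ g⁻¹ v = v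
        conv_lhs => rw [← show σ g v = v from hg]
        rw [apply_inv_apply] }
  exact fun g hg => (sup_le (fun a ha => hv.1 a ha) fun b hb => hv.2 b hb : A ⊔ B ≤ S) hg

/-- A natural module bounds the fixed points of a nontrivial subgroup. -/
theorem exact_of_natural [Finite G] [Finite V] {B L : Subgroup G} (hinj : Function.Injective σ) (hBL : B ≤ L)
    (hB : B ≠ ⊥) (hle : Nat.card V ≤ Nat.card B * Nat.card (fix σ B))
    (hnat : ∃ (F : Type) (_ : Field F) (_ : Fintype F) (φ : L ≃* SL(2, F)) (ψ : V →+ (Fin 2 → F)),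
      Fintype.card F = Nat.card B ∧ Function.Surjective ψ ∧ (∀ v, ψ v = 0 ↔ v ∈ fix σ L) ∧
        ∀ (g : L) v, ψ (σ g v) = (φ g).1 *ᵥ ψ v) :
    Nat.card B * Nat.card (fix σ B) = Nat.card V := by
  obtain ⟨F, _, _, φ, ψ, hF, hs, hk, he⟩ := hnat
  refine le_antisymm ?_ hle
  obtain ⟨b, hb, hb1⟩ := B.bot_or_exists_ne_one.resolve_left hB
  set s := φ ⟨b, hBL hb⟩ with hsdef
  let W : Submodule F (Fin 2 → F) := LinearMap.eqLocus (Matrix.toLin' s.1) LinearMap.id
  have hW : W ≠ ⊤ := by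
    intro e
    have h1 : s = 1 := Subtype.ext (Matrix.toLin'.injective (LinearMap.ext fun c => by
      simpa [W] using (SetLike.ext_iff.mp e c).mpr trivial))
    exact hb1 (congrArg Subtype.val ((EmbeddingLike.map_eq_one_iff (f := φ)).mp h1))
  have hWc : Nat.card W ≤ Fintype.card F := by
    haveI : Fintype W := Fintype.ofFinite _
    rw [Nat.card_eq_fintype_card, Module.card_eq_pow_finrank (K := F)]
    refine (Nat.pow_le_pow_right Fintype.card_pos ?_).trans (pow_one _).le
    have h1 := Submodule.finrank_lt hW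
    rw [Module.finrank_fin_fun] at h1
    omega
  set K := fix σ L
  have hker : ψ.ker = K := AddSubgroup.ext fun v => hk v
  have hV : Nat.card V = Fintype.card F ^ 2 * Nat.card K := by
    rw [← ψ.ker.index_mul_card, hker, ← hker, AddSubgroup.index_ker, hker,
      AddMonoidHom.range_eq_top.mpr hs, AddSubgroup.card_top, Nat.card_eq_fintype_card, Fintype.card_fun,
      Fintype.card_fin]
  let r : fix σ B →+ (Fin 2 → F) := ψ.comp (fix σ B).subtype
  have hr : Nat.card r.range ≤ Nat.card W := by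
    refine Nat.card_le_card_of_injective (fun c => ⟨c.1, ?_⟩) fun c d h => Subtype.ext (congrArg (fun z : W => (z : Fin 2 → F)) h)
    obtain ⟨⟨v, hv⟩, e⟩ := c.2
    show Matrix.toLin' s.1 c.1 = c.1
    rw [← e]
    show s.1 *ᵥ ψ v = ψ v
    rw [hsdef, ← he, hv b hb]
  have hrk : Nat.card r.ker ≤ Nat.card K := by
    refine Nat.card_le_card_of_injective (fun c => ⟨c.1.1, (hk _).mp c.2⟩) fun c d h => ?_
    exact Subtype.ext (Subtype.ext (congrArg Subtype.val h :))
  rw [hV, ← r.ker.index_mul_card, AddSubgroup.index_ker, hF, sq, ← mul_assoc]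
  calc Nat.card B * Nat.card r.range * Nat.card r.ker
      ≤ Nat.card B * Nat.card B * Nat.card K :=
        Nat.mul_le_mul (Nat.mul_le_mul le_rfl (hr.trans (hWc.trans hF.le))) hrk
    _ = _ := rfl

/-- Transport of a pair by conjugation. -/
theorem IsPair.conj [Finite G] {B L : Subgroup G} (h : IsPair σ B L) (g : G) : IsPair σ (cj g B) (cj g L) where
  le := cj_mono h.le
  gen := by
    obtain ⟨x, hx, e⟩ := h.gen
    refine ⟨g * x * g⁻¹, ⟨x, hx, rfl⟩, ?_⟩
    rw [cj_cj, inv_mul_cancel_right, ← cj_cj, cj, cj, ← Subgroup.map_sup, e]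
  exact := by rw [card_cj, card_fix_cj]; exact h.exact
  natural := by
    obtain ⟨F, i1, i2, φ, ψ, hF, hs, hk, he⟩ := h.natural
    let e : L ≃* cj g L := L.equivMapOfInjective _ (MulAut.conj g).injective
    refine ⟨F, i1, i2, e.symm.trans φ, ψ.comp (σ g⁻¹ : V →+ V), hF.trans (card_cj g B).symm, ?_, ?_, ?_⟩
    · intro c
      obtain ⟨v, hv⟩ := hs c
      refine ⟨σ g v, ?_⟩
      show ψ (σ g⁻¹ (σ g v)) = c
      rw [apply_inv_apply, hv]
    · intro v
      show ψ (σ g⁻¹ v) = 0 ↔ _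
      rw [hk, ← mem_fix_conj]
    · intro y v
      obtain ⟨l, rfl⟩ := e.surjective y
      show ψ (σ g⁻¹ (σ (g * l * g⁻¹) v)) = _
      rw [apply_mul, apply_mul, apply_inv_apply, he]
      show (φ l).1 *ᵥ ψ (σ g⁻¹ v) = (φ (e.symm (e l))).1 *ᵥ ψ (σ g⁻¹ v)
      rw [e.symm_apply_apply]

variable [Finite G] [Finite V] [Fact p.Prime] {T : Sylow p G} {M : Subgroup G}

/-- If every strict offender has a pair, quadratic groups have weight at most `|V|`. -/
theorem card_mul_le (hnil : ∀ v : V, p • v = 0)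
    (hex : ∀ B : Subgroup G, IsStrict σ p B → ∃ L, IsPair σ B L) {A : Subgroup G} (hA : IsPGroup p A)
    (hquad : ∀ a ∈ A, ∀ b ∈ A, ∀ v, σ a (σ b v - v) = σ b v - v) :
    Nat.card A * Nat.card (fix σ A) ≤ Nat.card V := by
  by_contra hlt
  rw [not_le] at hlt
  obtain ⟨A₁, hA₁, hmax⟩ := Set.exists_max_image {X : Subgroup G | X ≤ A}
    (fun X => Nat.card X * Nat.card (fix σ X)) (Set.toFinite _) ⟨A, le_refl A⟩
  obtain ⟨B, ⟨hBA, hBw⟩, hmin⟩ := Set.exists_min_image
    {X : Subgroup G | X ≤ A ∧ Nat.card X * Nat.card (fix σ X) = Nat.card A₁ * Nat.card (fix σ A₁)}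
    (fun X => Nat.card X) (Set.toFinite _) ⟨A₁, hA₁, rfl⟩
  have hw : Nat.card V < Nat.card B * Nat.card (fix σ B) := hlt.trans_le (hBw ▸ hmax A (le_refl A))
  obtain ⟨L, hL⟩ := hex B
    { pgroup := hA.to_le hBA
      ne_bot := fun e => by
        rw [e, card_bot, one_mul] at hw
        exact absurd hw (not_lt.mpr (Nat.card_le_card_of_injective _ Subtype.val_injective))
      quad := fun a ha b hb => hquad a (hBA ha) b (hBA hb)
      smul := fun a _ v => by rw [hnil, map_zero]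
      le := hw.le
      strict := fun X hX _ hne => lt_of_le_of_ne (hBw ▸ hmax X (hX.trans hBA)) fun e => hne
        (eq_of_le_of_card_ge hX (hmin X ⟨hX.trans hBA, e.trans hBw⟩)) }
  exact hw.ne' hL.exact

/-- Subgroups of a size above `d` whose normalizers stay inside the conjugates of `M` containing them are in one such
conjugate only. -/
theorem eq_of_shared (h : Setting σ p T M) (B : Subgroup G) (d : ℕ)
    (hgood : ∀ D : Subgroup G, IsPGroup p D → D ≠ ⊥ → gen B D = D → d < Nat.card D →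
      ∀ K, IsConjOf M K → D ≤ K → normalizer (D : Set G) ≤ K)
    {D : Subgroup G} (hD : IsPGroup p D) (hD1 : D ≠ ⊥) (hDg : gen B D = D) (hd : d < Nat.card D)
    {K K' : Subgroup G} (hK : IsConjOf M K) (hK' : IsConjOf M K') (h1 : D ≤ K) (h2 : D ≤ K') : K = K' := by
  by_contra hne
  obtain ⟨D, ⟨hD, hD1, hDg, hd, h1, h2⟩, hmax⟩ := Set.exists_max_image
    {D : Subgroup G | IsPGroup p D ∧ D ≠ ⊥ ∧ gen B D = D ∧ d < Nat.card D ∧ D ≤ K ∧ D ≤ K'}
    (fun D => Nat.card D) (Set.toFinite _) ⟨D, hD, hD1, hDg, hd, h1, h2⟩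
  have hN := hgood D hD hD1 hDg hd K hK h1
  have hN' := hgood D hD hD1 hDg hd K' hK' h2
  -- every Sylow subgroup in `K` or `K'` over `D` normalizes `D`
  have key : ∀ L, IsConjOf M L → D ≤ L → ∃ S : Sylow p G, (S : Subgroup G) ≤ L ∧
      (S : Subgroup G) ≤ normalizer (D : Set G) := by
    intro L hL hDL
    obtain ⟨S, hDS, hSL⟩ := h.exists_sylow_le hL hD hDL
    refine ⟨S, hSL, (gen_eq_of_inf_normalizer (B := B) S.isPGroup' ?_).2⟩
    have hle : D ≤ gen B ((S : Subgroup G) ⊓ normalizer (D : Set G)) :=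
      hDg.ge.trans (gen_mono (le_inf hDS le_normalizer))
    refine (eq_of_le_of_card_ge hle (hmax _ ⟨(S.isPGroup'.to_le inf_le_left).to_le (gen_le _ _),
      ne_bot_of_le_ne_bot hD1 hle, gen_gen _ _, hd.trans_le (card_le_of_le hle), ?_, ?_⟩)).symm
    · exact (gen_le _ _).trans (inf_le_right.trans hN)
    · exact (gen_le _ _).trans (inf_le_right.trans hN')
  obtain ⟨S, hSK, hSN⟩ := key K hK h1
  exact hne (h.conj_unique S hK hK' hSK (hSN.trans hN'))

/-- The pair of a strict offender when the normalizers of the generated subgroups are controlled. -/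
theorem exists_pair_of_controlled (h : Setting σ p T M) {B : Subgroup G} (hB : IsStrict σ p B)
    (hgood : ∀ D : Subgroup G, IsPGroup p D → D ≠ ⊥ → gen B D = D →
      ∀ K, IsConjOf M K → D ≤ K → normalizer (D : Set G) ≤ K) :
    ∃ L, IsPair σ B L := by
  classical
  have huniq : ∀ {g : G} {K K' : Subgroup G}, IsConjOf M K → IsConjOf M K' → cj g B ≤ K → cj g B ≤ K' → K = K' := by
    intro g K K' hK hK' h1 h2
    refine eq_of_shared h B 0 (fun D a b c _ => hgood D a b c) (hB.pgroup.map _) ?_ ?_ Nat.card_pos hK hK' h1 h2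
    · exact fun e => hB.ne_bot ((map_eq_bot_iff_of_injective _ (MulAut.conj g).injective).mp e)
    · exact le_antisymm (gen_le _ _) (le_gen le_rfl)
  have hT1 : (T : Subgroup G) ≠ ⊥ := by
    intro e
    obtain ⟨S, hS⟩ := hB.pgroup.exists_le_sylow
    have hc : Nat.card (S : Subgroup G) = 1 := by
      rw [S.card_eq_multiplicity, ← T.card_eq_multiplicity, e, card_bot]
    exact hB.ne_bot (le_bot_iff.mp (hS.trans (card_eq_one.mp hc).le))
  obtain ⟨S₀, K, hBS, hSK, hK⟩ := h.exists_sylow_conj hB.pgroup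
  have hBK : B ≤ K := hBS.trans hSK
  have hKne : K ≠ ⊤ := by
    obtain ⟨g, rfl⟩ := hK
    exact fun e => h.ne_top (eq_top_of_card_eq M (by rw [← card_cj g M, e, card_top]))
  obtain ⟨Y, ⟨hBY, hYK⟩, hmin⟩ := Set.exists_min_image {Y : Subgroup G | B ≤ Y ∧ ¬ Y ≤ K}
    (fun Y => Nat.card Y) (Set.toFinite _) ⟨⊤, le_top, fun e => hKne (top_le_iff.mp e)⟩
  have hprop : ∀ X : Subgroup G, B ≤ X → X < Y → X ≤ K := fun X hBX hXY => by
    by_contra hX
    exact hXY.ne (eq_of_le_of_card_ge hXY.le (hmin X ⟨hBX, hX⟩))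
  set L₀ := K.subgroupOf Y with hL₀
  set B' := B.subgroupOf Y with hB'
  let σY : Y →* AddMonoid.End V := σ.comp Y.subtype
  have hmaxY : ∀ X : Subgroup Y, B' ≤ X → X ≠ ⊤ → X ≤ L₀ := by
    intro X hBX hX y hy
    refine hprop (X.map Y.subtype) (fun b hb => ⟨⟨b, hBY hb⟩, hBX hb, rfl⟩)
      (lt_of_le_of_ne (map_subtype_le X) fun e => hX ?_) ⟨y, hy, rfl⟩
    exact map_injective Y.subtype_injective (by rw [e, ← MonoidHom.range_eq_map, range_subtype])
  have hB'L₀ : B' ≤ L₀ := fun y hy => hBK hy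
  have hL₀ne : L₀ ≠ ⊤ := fun e => hYK (subgroupOf_eq_top.1 e)
  have hcoat : IsCoatom L₀ :=
    ⟨hL₀ne, fun X hX => by_contra fun hne => hX.not_ge (hmaxY X (hB'L₀.trans hX.le) hne)⟩
  have hgenY : ∀ x : Y, x ∉ L₀ → B' ⊔ B'.map (MulAut.conj x).toMonoidHom = ⊤ := by
    intro x hx
    by_contra hne
    refine hx (mem_subgroupOf.2 ?_)
    -- `B` also lies in the conjugate of `K` by `x⁻¹`
    have hle : cj (x : G) B ≤ K := by
      rintro _ ⟨b, hb, rfl⟩
      exact hmaxY _ le_sup_left hne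
        (le_sup_right (a := B') ⟨⟨b, hBY hb⟩, hb, rfl⟩ :
          x * ⟨b, hBY hb⟩ * x⁻¹ ∈ B' ⊔ B'.map (MulAut.conj x).toMonoidHom)
    obtain ⟨g, rfl⟩ := hK
    have e : cj g M = cj ((x : G)⁻¹ * g) M := huniq (g := 1) ⟨g, rfl⟩ ⟨_, rfl⟩ (by rwa [cj_one]) (by
      rw [cj_one, ← cj_cj, ← cj_inv_cj (x : G) B]
      exact cj_mono hle)
    have e2 : cj (g⁻¹ * (x : G)⁻¹ * g) M = M := by
      rw [mul_assoc, ← cj_cj, ← e, cj_inv_cj]
    rw [mem_cj]
    have := inv_mem ((h.cj_eq_self_iff hT1).mp e2)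
    simpa [mul_assoc] using this
  obtain ⟨x₀, hx₀⟩ : ∃ x : Y, x ∉ L₀ := by
    by_contra hh
    push Not at hh
    exact hL₀ne (eq_top_iff.2 fun x _ => hh x)
  obtain ⟨TY, hTY⟩ := (hB.pgroup.comap_subtype (K := Y)).exists_le_sylow
  obtain ⟨S, K', hTS, hSK', hK'⟩ := h.exists_sylow_conj (TY.isPGroup'.map Y.subtype)
  have hBS' : B ≤ (S : Subgroup G) := fun b hb => hTS ⟨⟨b, hBY hb⟩, hTY hb, rfl⟩
  obtain rfl : K = K' := huniq (g := 1) hK hK' (by rwa [cj_one]) (by rw [cj_one]; exact hBS'.trans hSK')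
  have hTYle : (TY : Subgroup Y) ≤ L₀ := fun y hy => hSK' (hTS ⟨y, hy, rfl⟩)
  have huniqY : ∀ N : Subgroup Y, IsCoatom N → (TY : Subgroup Y) ≤ N → N = L₀ := fun N hN hTN =>
    ((hN.le_iff.1 (hmaxY N (hTY.trans hTN) hN.1)).resolve_left hL₀ne).symm
  have hfixB : fix σY B' = fix σ B := AddSubgroup.ext fun v =>
    ⟨fun h b hb => h ⟨b, hBY hb⟩ hb, fun h b hb => h b hb⟩
  have hcardB : Nat.card B' = Nat.card B := Nat.card_congr (subgroupOfEquivOfLe hBY).toEquiv
  obtain ⟨F, i1, i2, φ, ψ, hF, hs, hk, he, -⟩ := exists_natural_of_smul σY (p := p) (h.inj.comp Y.subtype_injective)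
    TY L₀ hcoat hTYle huniqY B' hTY
    (fun a ha b hb v => hB.quad a ha b hb v)
    (by rw [hfixB, hcardB]; exact hB.le)
    (fun A₀ hA₀ hA1 hA2 => by
      rw [hfixB, hcardB, ← card_map_of_injective (K := A₀) Y.subtype_injective,
        show fix σY A₀ = fix σ (A₀.map Y.subtype) from AddSubgroup.ext fun v =>
          ⟨fun h => by rintro _ ⟨a, ha, rfl⟩; exact h a ha, fun h a ha => h _ ⟨a, ha, rfl⟩⟩]
      refine hB.strict _ ?_ ?_ ?_
      · rintro _ ⟨a, ha, rfl⟩; exact hA₀ ha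
      · exact fun e => hA1 ((map_eq_bot_iff_of_injective _ Y.subtype_injective).1 e)
      · intro e
        refine hA2 (map_injective Y.subtype_injective ?_)
        rw [e, hB', subgroupOf_map_subtype, inf_eq_left.2 hBY])
    (by
      by_contra hno
      push Not at hno
      refine hYK fun y hy => h.cent_conj S hK hSK' fun v hv => ?_
      exact hno v (fun t ht => hv _ (hTS ⟨t, ht, rfl⟩)) ⟨y, hy⟩ (mem_top _))
    hgenY (fun a ha v => hB.smul a ha v)
  have hfixY : fix σY ⊤ = fix σ Y := AddSubgroup.ext fun v =>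
    ⟨fun h l hl => h ⟨l, hl⟩ (mem_top _), fun h l _ => h l l.2⟩
  have hnat : ∃ (F : Type) (_ : Field F) (_ : Fintype F) (φ : Y ≃* SL(2, F)) (ψ : V →+ (Fin 2 → F)),
      Fintype.card F = Nat.card B ∧ Function.Surjective ψ ∧ (∀ v, ψ v = 0 ↔ v ∈ fix σ Y) ∧
        ∀ (g : Y) v, ψ (σ g v) = (φ g).1 *ᵥ ψ v :=
    ⟨F, i1, i2, φ, ψ, hF.trans hcardB, hs, fun v => (hk v).trans (by rw [hfixY]), he⟩
  refine ⟨Y, hBY, ⟨x₀, x₀.2, ?_⟩, exact_of_natural h.inj hBY hB.ne_bot hB.le hnat, hnat⟩
  have e := congrArg (Subgroup.map Y.subtype) (hgenY x₀ hx₀)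
  rw [Subgroup.map_sup, ← MonoidHom.range_eq_map, range_subtype, hB', subgroupOf_map_subtype,
    inf_eq_left.2 hBY] at e
  refine Eq.trans ?_ e
  congr 1
  conv_lhs => rw [cj, ← inf_eq_left.2 hBY, ← subgroupOf_map_subtype, map_map]
  rw [map_map]
  rfl

end CfsgLib.FFRootGroups
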