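import Cfsg.Agent.FFRootGroups.Exists

/-! The fixed points `U` of the `p`-core of a subgroup `P` as a module for `P` modulo its kernel, and the lifting of a
pair from `U` to `V`. -/

set_option autoImplicit false
set_option linter.style.haveILetI false

namespace CfsgLib.FFRootGroups

open Subgroup CfsgLib.SL2Recognition CfsgLib.WeakClosed.Torus
open scoped MatrixGroups Matrix

universe u v

variable {G : Type u} {V : Type v} [Group G] [AddCommGroup V] {σ : G →* AddMonoid.End V} {p : ℕ}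

/-- A subgroup acting on an invariant additive subgroup. -/
def onSub (σ : G →* AddMonoid.End V) (P : Subgroup G) (U : AddSubgroup V) (hU : ∀ g ∈ P, ∀ u ∈ U, σ g u ∈ U) :
    P →* AddMonoid.End U where
  toFun g := AddMonoidHom.mk' (fun u => ⟨σ (g : G) (u : V), hU g g.2 u u.2⟩) fun u w => Subtype.ext (by
    show σ (g : G) ((u : V) + w) = σ (g : G) u + σ (g : G) w
    rw [map_add])
  map_one' := AddMonoidHom.ext fun u => Subtype.ext (apply_one σ (u : V))
  map_mul' g h := AddMonoidHom.ext fun u => Subtype.ext (apply_mul σ (g : G) h (u : V))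

variable {P : Subgroup G} {U : AddSubgroup V} {hU : ∀ g ∈ P, ∀ u ∈ U, σ g u ∈ U}

theorem coe_onSub (g : P) (u : U) : ((onSub σ P U hU g u : U) : V) = σ (g : G) u := rfl

theorem mem_fix_onSub {H : Subgroup P} {u : U} :
    u ∈ fix (onSub σ P U hU) H ↔ (u : V) ∈ fix σ (H.map P.subtype) := by
  refine ⟨fun h => ?_, fun h a ha => Subtype.ext (h (a : G) ⟨a, ha, rfl⟩)⟩
  rintro _ ⟨a, ha, rfl⟩
  exact congrArg Subtype.val (h a ha)

/-- The action on `U` modulo its kernel. -/
abbrev quotAct (σ : G →* AddMonoid.End V) (P : Subgroup G) (U : AddSubgroup V)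
    (hU : ∀ g ∈ P, ∀ u ∈ U, σ g u ∈ U) : P ⧸ (onSub σ P U hU).ker →* AddMonoid.End U :=
  QuotientGroup.lift _ (onSub σ P U hU) fun _ hg => MonoidHom.mem_ker.mp hg

theorem quotAct_injective : Function.Injective (quotAct σ P U hU) := by
  intro a b h
  induction a using QuotientGroup.induction_on with
  | _ x =>
    induction b using QuotientGroup.induction_on with
    | _ y =>
      have h' : onSub σ P U hU x = onSub σ P U hU y := h
      refine QuotientGroup.eq.mpr (MonoidHom.mem_ker.mpr ?_)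
      rw [map_mul, ← h', ← map_mul, inv_mul_cancel, map_one]

theorem mem_fix_quotAct {H : Subgroup P} {u : U} :
    u ∈ fix (quotAct σ P U hU) (H.map (QuotientGroup.mk' (onSub σ P U hU).ker)) ↔
      (u : V) ∈ fix σ (H.map P.subtype) := by
  rw [← mem_fix_onSub (hU := hU)]
  refine ⟨fun h a ha => ?_, fun h => ?_⟩
  · exact h _ ⟨a, ha, rfl⟩
  · rintro _ ⟨a, ha, rfl⟩
    exact h a ha

theorem card_fix_quotAct (H : Subgroup P) :
    Nat.card (fix (quotAct σ P U hU) (H.map (QuotientGroup.mk' (onSub σ P U hU).ker))) =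
      Nat.card ↥(U ⊓ fix σ (H.map P.subtype)) :=
  Nat.card_congr
    { toFun := fun u => ⟨u.1.1, u.1.2, mem_fix_quotAct.mp u.2⟩
      invFun := fun v => ⟨⟨v.1, v.2.1⟩, mem_fix_quotAct.mpr v.2.2⟩
      left_inv := fun _ => rfl
      right_inv := fun _ => rfl }

variable [Finite G] [Finite V] [Fact p.Prime]

/-- A quadratic group that is an offender attaining the bound on `U` is exact, and its image is strict. -/
theorem strict_image (hinj : Function.Injective σ) (hnil : ∀ v : V, p • v = 0) {B : Subgroup P}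
    (hB : IsStrict σ p (B.map P.subtype)) (hBN : ¬ B ≤ (onSub σ P U hU).ker)
    (hbound : ∀ A : Subgroup (P ⧸ (onSub σ P U hU).ker), IsPGroup p A →
      (∀ a ∈ A, ∀ b ∈ A, ∀ v, quotAct σ P U hU a (quotAct σ P U hU b v - v) = quotAct σ P U hU b v - v) →
      Nat.card A * Nat.card (fix (quotAct σ P U hU) A) ≤ Nat.card U) :
    B ⊓ (onSub σ P U hU).ker = ⊥ ∧ U ⊔ fix σ (B.map P.subtype) = ⊤ ∧
      Nat.card (B.map P.subtype) * Nat.card (fix σ (B.map P.subtype)) = Nat.card V ∧
      IsStrict (quotAct σ P U hU) p (B.map (QuotientGroup.mk' (onSub σ P U hU).ker)) := by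
  classical
  set N := (onSub σ P U hU).ker with hN
  set π := QuotientGroup.mk' N with hπ
  set B₀ := B.map P.subtype with hB₀
  set H := fix σ B₀ with hH
  set B₁ := (B ⊓ N).map P.subtype with hB₁
  have hB₁le : B₁ ≤ B₀ := map_mono inf_le_left
  have hB₁U : U ⊔ H ≤ fix σ B₁ := sup_le (fun u hu => by
    rintro _ ⟨a, ha, rfl⟩
    exact congrArg Subtype.val (DFunLike.congr_fun (MonoidHom.mem_ker.mp (mem_inf.mp ha).2) ⟨u, hu⟩))
    (fix_anti σ hB₁le)
  have hw : Nat.card B₁ * Nat.card (fix σ B₁) ≤ Nat.card B₀ * Nat.card H := by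
    rcases eq_or_ne B₁ ⊥ with e | e
    · rw [e, card_bot, one_mul]
      exact le_trans (Nat.card_le_card_of_injective _ Subtype.val_injective) hB.le
    · rcases eq_or_ne B₁ B₀ with e' | e'
      · rw [e']
      · exact (hB.strict _ hB₁le e e').le
  have hsup := card_sup_mul_inf U H
  have hUH : Nat.card ↥(U ⊔ H) ≤ Nat.card (fix σ B₁) :=
    Nat.card_le_card_of_injective (fun v => ⟨v.1, hB₁U v.2⟩) fun _ _ h => Subtype.ext (congrArg Subtype.val h :)
  have hcardB : Nat.card B₁ * Nat.card (B.map π) = Nat.card B₀ := by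
    rw [hB₁, hB₀, card_map_of_injective P.subtype_injective, card_map_of_injective P.subtype_injective,
      ← relIndex_ker (K := B), QuotientGroup.ker_mk', ← inf_relIndex_right, inf_comm,
      ← relIndex_bot_left, mul_comm]
    rw [show Nat.card B = (⊥ : Subgroup P).relIndex B from (relIndex_bot_left B).symm,
      mul_comm, relIndex_mul_relIndex _ _ _ bot_le inf_le_right]
  have hfixB : Nat.card (fix (quotAct σ P U hU) (B.map π)) = Nat.card ↥(U ⊓ H) := card_fix_quotAct B
  have hquad : ∀ a ∈ B.map π, ∀ b ∈ B.map π, ∀ v, quotAct σ P U hU a (quotAct σ P U hU b v - v) =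
      quotAct σ P U hU b v - v := by
    rintro _ ⟨a, ha, rfl⟩ _ ⟨b, hb, rfl⟩ v
    exact Subtype.ext (hB.quad _ ⟨a, ha, rfl⟩ _ ⟨b, hb, rfl⟩ (v : V))
  have hBp : IsPGroup p B := IsPGroup.of_injective hB.pgroup
    ((P.subtype.subgroupMap B)) fun x y h => Subtype.ext (P.subtype_injective (congrArg Subtype.val h :))
  have hpos₁ : 0 < Nat.card B₁ := Nat.card_pos
  have hposH : 0 < Nat.card H := Nat.card_pos
  -- offender on `U`
  have hge : Nat.card U ≤ Nat.card (B.map π) * Nat.card ↥(U ⊓ H) := by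
    refine Nat.le_of_mul_le_mul_left ?_ (Nat.mul_pos hpos₁ hposH)
    calc Nat.card B₁ * Nat.card H * Nat.card U
        = Nat.card B₁ * Nat.card ↥(U ⊔ H) * Nat.card ↥(U ⊓ H) := by rw [mul_assoc, mul_assoc, hsup]; ring
      _ ≤ Nat.card B₁ * Nat.card (fix σ B₁) * Nat.card ↥(U ⊓ H) := by gcongr
      _ ≤ Nat.card B₀ * Nat.card H * Nat.card ↥(U ⊓ H) := by gcongr
      _ = _ := by rw [← hcardB]; ring
  have heq : Nat.card U = Nat.card (B.map π) * Nat.card ↥(U ⊓ H) :=
    le_antisymm hge (hfixB ▸ hbound _ (hBp.map π) hquad)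
  have hsupcard : Nat.card ↥(U ⊔ H) = Nat.card (B.map π) * Nat.card H := by
    refine Nat.eq_of_mul_eq_mul_right (Nat.card_pos (α := ↥(U ⊓ H))) ?_
    rw [hsup, heq]; ring
  have hbot : B ⊓ N = ⊥ := by
    by_contra hne
    have h1 : B₁ ≠ ⊥ := fun e => hne ((map_eq_bot_iff_of_injective _ P.subtype_injective).mp e)
    have h2 : B₁ ≠ B₀ := fun e => hBN ((map_injective P.subtype_injective e).ge.trans inf_le_right)
    have h3 := hB.strict _ hB₁le h1 h2
    have h4 : Nat.card B₁ * Nat.card ↥(U ⊔ H) ≤ Nat.card B₁ * Nat.card (fix σ B₁) := Nat.mul_le_mul_left _ hUH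
    rw [hsupcard, ← mul_assoc, hcardB] at h4
    rw [← hH] at h3
    omega
  have hc : Nat.card (B.map π) = Nat.card B₀ := by
    rw [← hcardB, show B₁ = ⊥ by rw [hB₁, hbot, Subgroup.map_bot], card_bot, one_mul]
  have htop : U ⊔ H = ⊤ := AddSubgroup.eq_top_of_le_card _ (by rw [hsupcard, hc]; exact hB.le)
  have hexact : Nat.card B₀ * Nat.card H = Nat.card V := by
    rw [← hc, ← hsupcard, htop, AddSubgroup.card_top]
  refine ⟨hbot, htop, hexact,
    { pgroup := hBp.map π
      ne_bot := fun e => hBN (by rwa [Subgroup.map_eq_bot_iff, QuotientGroup.ker_mk'] at e)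
      quad := hquad
      smul := fun a _ v => by
        rw [show p • v = 0 from Subtype.ext (hnil v), map_zero]
      le := by rw [hfixB]; exact hge
      strict := ?_ }⟩
  intro A₀ hA₀ hA1 hA2
  rw [hfixB, ← heq]
  refine lt_of_le_of_ne (hbound _ ((hBp.map π).to_le hA₀) fun a ha b hb => hquad a (hA₀ ha) b (hA₀ hb)) fun e => ?_
  set C := B ⊓ A₀.comap π with hC
  have hCA : C.map π = A₀ := by
    refine le_antisymm (map_le_iff_le_comap.mpr inf_le_right) fun a ha => ?_
    obtain ⟨b, hb, rfl⟩ := hA₀ ha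
    exact ⟨b, ⟨hb, ha⟩, rfl⟩
  have hCcard : Nat.card (C.map P.subtype) = Nat.card A₀ := by
    rw [card_map_of_injective P.subtype_injective, ← hCA, ← relIndex_ker (K := C), QuotientGroup.ker_mk',
      ← inf_relIndex_right, show N ⊓ C = ⊥ from le_bot_iff.mp (hbot ▸ le_inf (inf_le_right.trans inf_le_left) inf_le_left),
      relIndex_bot_left]
  set W := (U ⊓ fix σ (C.map P.subtype)) with hW
  have hWH : W ⊔ H ≤ fix σ (C.map P.subtype) := sup_le inf_le_right (fix_anti σ (map_mono inf_le_left))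
  have hstr := hB.strict (C.map P.subtype) (map_mono inf_le_left) (fun e' => hA1 (by
      rw [← hCA, (map_eq_bot_iff_of_injective _ P.subtype_injective).mp e', Subgroup.map_bot]))
    (fun e' => hA2 (by rw [← hCA, map_injective P.subtype_injective e']))
  rw [hexact] at hstr
  have hfixA : Nat.card (fix (quotAct σ P U hU) A₀) = Nat.card W := by rw [← hCA]; exact card_fix_quotAct C
  have hWHinf : W ⊓ H = U ⊓ H :=
    le_antisymm (inf_le_inf_right _ inf_le_left)
      (le_inf (le_inf inf_le_left (inf_le_right.trans (fix_anti σ (map_mono inf_le_left)))) inf_le_right)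
  have hsup' := card_sup_mul_inf W H
  rw [hWHinf] at hsup'
  have hle : Nat.card ↥(W ⊔ H) ≤ Nat.card (fix σ (C.map P.subtype)) :=
    Nat.card_le_card_of_injective (fun v => ⟨v.1, hWH v.2⟩) fun _ _ h => Subtype.ext (congrArg Subtype.val h :)
  rw [hCcard] at hstr
  have key : Nat.card A₀ * Nat.card ↥(W ⊔ H) = Nat.card V := by
    refine Nat.eq_of_mul_eq_mul_right (Nat.card_pos (α := ↥(U ⊓ H))) ?_
    rw [mul_assoc, hsup', ← mul_assoc, ← hfixA, e, ← hexact, ← hc, heq]; ring
  have := Nat.mul_le_mul_left (Nat.card A₀) hle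
  omega

/-- A pair on `U` of the image of `B` comes from a pair on `V`. -/
theorem exists_pair_lift (hinj : Function.Injective σ) {B : Subgroup P}
    (hexact : Nat.card (B.map P.subtype) * Nat.card (fix σ (B.map P.subtype)) = Nat.card V)
    (hbot : B ⊓ (onSub σ P U hU).ker = ⊥)
    {Lb : Subgroup (P ⧸ (onSub σ P U hU).ker)}
    (hL : IsPair (quotAct σ P U hU) (B.map (QuotientGroup.mk' (onSub σ P U hU).ker)) Lb) :
    ∃ L, IsPair σ (B.map P.subtype) L := by
  classical
  set N := (onSub σ P U hU).ker with hN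
  set π := QuotientGroup.mk' N with hπ
  set B₀ := B.map P.subtype with hB₀
  obtain ⟨xb, hxb, hgen⟩ := hL.gen
  obtain ⟨F, i1, i2, φ, ψ, hF, hs, hk, he⟩ := hL.natural
  obtain ⟨x, rfl⟩ := QuotientGroup.mk'_surjective N xb
  set Y := B ⊔ cj x B with hY
  set L := Y.map P.subtype with hLdef
  have hYL : Y.map π = Lb := by
    rw [← hgen, hY, Subgroup.map_sup]
    congr 1
    rw [cj, cj, map_map, map_map]
    congr 1
  have hLgen : L = B₀ ⊔ cj (x : G) B₀ := by
    rw [hLdef, hY, Subgroup.map_sup]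
    congr 1
    rw [cj, cj, hB₀, map_map, map_map]
    rfl
  set K := fix σ L with hK
  have hKeq : K = fix σ B₀ ⊓ fix σ (cj (x : G) B₀) := by rw [hK, hLgen, fix_sup]
  -- cardinalities
  have hB₀card : Nat.card (B.map π) = Nat.card B₀ := by
    rw [hB₀, card_map_of_injective P.subtype_injective, ← relIndex_ker (K := B), QuotientGroup.ker_mk',
      ← inf_relIndex_right, inf_comm, hbot, relIndex_bot_left]
  have hkerU : ∀ u : U, ψ u = 0 ↔ (u : V) ∈ K := fun u => by
    rw [hk, ← hYL, mem_fix_quotAct]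
  have hUK : Nat.card U = Nat.card B₀ * Nat.card B₀ * Nat.card ↥(U ⊓ K) := by
    rw [← ψ.ker.index_mul_card, AddSubgroup.index_ker, AddMonoidHom.range_eq_top.mpr hs, AddSubgroup.card_top,
      Nat.card_eq_fintype_card, Fintype.card_fun, Fintype.card_fin, hF, hB₀card, sq]
    congr 1
    exact Nat.card_congr
      { toFun := fun u => ⟨u.1.1, u.1.2, (hkerU u.1).mp u.2⟩
        invFun := fun v => ⟨⟨v.1, v.2.1⟩, (hkerU _).mpr v.2.2⟩
        left_inv := fun _ => rfl
        right_inv := fun _ => rfl }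
  have hKge : Nat.card V ≤ Nat.card B₀ * Nat.card B₀ * Nat.card K := by
    have h1 := card_sup_mul_inf (fix σ B₀) (fix σ (cj (x : G) B₀))
    rw [← hKeq, card_fix_cj] at h1
    have h2 : Nat.card ↥(fix σ B₀ ⊔ fix σ (cj (x : G) B₀)) ≤ Nat.card V :=
      Nat.card_le_card_of_injective _ Subtype.val_injective
    have h3 := Nat.mul_le_mul_right (Nat.card K) h2
    rw [h1] at h3
    refine Nat.le_of_mul_le_mul_left ?_ (Nat.card_pos (α := V))
    calc Nat.card V * Nat.card V
        = Nat.card B₀ * Nat.card B₀ * (Nat.card (fix σ B₀) * Nat.card (fix σ B₀)) := by rw [← hexact]; ring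
      _ ≤ Nat.card B₀ * Nat.card B₀ * (Nat.card V * Nat.card K) := Nat.mul_le_mul_left _ h3
      _ = _ := by ring
  have htop : U ⊔ K = ⊤ := by
    refine AddSubgroup.eq_top_of_le_card _ (Nat.le_of_mul_le_mul_right ?_ (Nat.card_pos (α := ↥(U ⊓ K))))
    rw [card_sup_mul_inf, hUK]
    calc Nat.card V * Nat.card ↥(U ⊓ K) ≤ Nat.card B₀ * Nat.card B₀ * Nat.card K * Nat.card ↥(U ⊓ K) :=
          Nat.mul_le_mul_right _ hKge
      _ = _ := by ring
  have hdec : ∀ v : V, ∃ u : U, v - (u : V) ∈ K := fun v => by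
    obtain ⟨u, hu, k, hk', e⟩ := AddSubgroup.mem_sup.mp (show v ∈ U ⊔ K from htop ▸ AddSubgroup.mem_top v)
    exact ⟨⟨u, hu⟩, by rw [← e]; simpa using hk'⟩
  choose uf huf using hdec
  have hwd : ∀ (v : V) (u : U), v - (u : V) ∈ K → ψ (uf v) = ψ u := fun v u hu => by
    rw [← sub_eq_zero, ← map_sub, hkerU]
    simpa using sub_mem hu (huf v)
  let Ψ : V →+ (Fin 2 → F) := AddMonoidHom.mk' (fun v => ψ (uf v)) fun v w => by
    rw [hwd (v + w) (uf v + uf w) (by
      show v + w - ((uf v : V) + uf w) ∈ K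
      rw [add_sub_add_comm]
      exact add_mem (huf v) (huf w)), map_add]
  have hΨU : ∀ u : U, Ψ u = ψ u := fun u => hwd _ u (by rw [sub_self]; exact zero_mem K)
  -- `L` acts faithfully on `U`
  have hLP : L ≤ P := map_subtype_le Y
  let e₀ : Y →* Lb := ((π.comp Y.subtype).codRestrict Lb fun y => hYL ▸ ⟨y, y.2, rfl⟩)
  have he₀ : Function.Bijective e₀ := by
    refine ⟨(injective_iff_map_eq_one e₀).mpr fun y hy => ?_, fun l => ?_⟩
    · have hyN : (y : P) ∈ N := (QuotientGroup.eq_one_iff _).mp (congrArg Subtype.val hy)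
      refine Subtype.ext (Subtype.ext (hinj (AddMonoidHom.ext fun v => ?_)))
      show σ ((y : P) : G) v = σ 1 v
      rw [apply_one]
      obtain ⟨u, hu, k, hk', e⟩ := AddSubgroup.mem_sup.mp (show v ∈ U ⊔ K from htop ▸ AddSubgroup.mem_top v)
      rw [← e, map_add, (hk' _ ⟨y, y.2, rfl⟩ : σ ((y : P) : G) k = k),
        show σ ((y : P) : G) u = u from (congrArg Subtype.val (DFunLike.congr_fun (MonoidHom.mem_ker.mp hyN) (⟨u, hu⟩ : U)) :)]
    · obtain ⟨y, hy, e⟩ := (hYL.ge l.2 : (l : P ⧸ N) ∈ Y.map π)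
      exact ⟨⟨y, hy⟩, Subtype.ext e⟩
  let eY : Y ≃* L := Y.equivMapOfInjective _ P.subtype_injective
  let Φ : L ≃* SL(2, F) := eY.symm.trans ((MulEquiv.ofBijective e₀ he₀).trans φ)
  obtain ⟨x', hx', ex⟩ : ∃ x' ∈ Y, π x' = π x := (hYL.ge hxb : π x ∈ Y.map π)
  have hY' : B ⊔ cj x' B = Y := by
    have hle : B ⊔ cj x' B ≤ Y := sup_le le_sup_left fun z hz => by
      rw [← cj_eq_of_mem (le_normalizer hx')]
      exact cj_mono le_sup_left hz
    have him : (B ⊔ cj x' B).map π = Lb := by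
      rw [← hgen, Subgroup.map_sup]
      congr 1
      rw [cj, cj, map_map, map_map, show QuotientGroup.mk' N x = π x' from ex.symm]
      congr 1
    refine le_antisymm hle fun z hz => ?_
    obtain ⟨z', hz', e⟩ := (him.ge (hYL.le ⟨z, hz, rfl⟩) : π z ∈ (B ⊔ cj x' B).map π)
    have : (⟨z', hle hz'⟩ : Y) = ⟨z, hz⟩ := he₀.1 (Subtype.ext e)
    have e' : z' = z := congrArg Subtype.val this
    exact e' ▸ hz'
  refine ⟨L, map_mono le_sup_left, ⟨(x' : P), ⟨x', hx', rfl⟩, ?_⟩, hexact, F, i1, i2, Φ, Ψ, hF.trans hB₀card, ?_, ?_, ?_⟩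
  · rw [hLdef, ← hY', Subgroup.map_sup]
    congr 1
    rw [cj, cj, hB₀, map_map, map_map]
    rfl
  · intro c
    obtain ⟨u, hu⟩ := hs c
    exact ⟨u, (hΨU u).trans hu⟩
  · intro v
    show ψ (uf v) = 0 ↔ v ∈ K
    rw [hkerU]
    exact ⟨fun h => by simpa using add_mem (huf v) h, fun h => by simpa using sub_mem h (huf v)⟩
  · intro g v
    obtain ⟨y, rfl⟩ := eY.surjective g
    show ψ (uf (σ ((y : P) : G) v)) = (φ (MulEquiv.ofBijective e₀ he₀ (eY.symm (eY y)))).1 *ᵥ ψ (uf v)
    rw [eY.symm_apply_apply]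
    refine Eq.trans (hwd _ (quotAct σ P U hU (e₀ y) (uf v)) ?_) (he (e₀ y) (uf v))
    show σ ((y : P) : G) v - σ ((y : P) : G) (uf v) ∈ K
    rw [← map_sub, (huf v _ ⟨y, y.2, rfl⟩ : σ ((y : P) : G) (v - (uf v : V)) = v - (uf v : V))]
    exact huf v

end CfsgLib.FFRootGroups
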