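import Cfsg.Agent.FFRootGroups.Lift
import Cfsg.Agent.LocalStructure.Cores

/-! The existence theorem for root pairs. -/

set_option autoImplicit false
set_option linter.style.haveILetI false

namespace CfsgLib.FFRootGroups

open Subgroup CfsgLib.SL2Recognition CfsgLib.WeakClosed.Torus
open scoped MatrixGroups Matrix

universe u v

variable {G : Type u} {V : Type v} [Group G] [AddCommGroup V] {σ : G →* AddMonoid.End V} {p : ℕ}
  [Finite G] [Finite V] [Fact p.Prime] {T : Sylow p G} {M : Subgroup G}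

/-- The induction step: pairs in proper subgroups of the same kind give a pair of `B`. -/
theorem exists_pair_step (h : Setting σ p T M) {B : Subgroup G} (hB : IsStrict σ p B)
    (hrec : ∀ {X : Type u} {W : Type v} [Group X] [AddCommGroup W] [Finite X] [Finite W] (τ : X →* AddMonoid.End W)
      (TX : Sylow p X) (MX : Subgroup X), Nat.card X < Nat.card G → Setting τ p TX MX →
      ∀ A : Subgroup X, IsStrict τ p A → ∃ L, IsPair τ A L) :
    ∃ L, IsPair σ B L := by
  classical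
  by_cases hgood : ∀ D : Subgroup G, IsPGroup p D → D ≠ ⊥ → gen B D = D →
      ∀ K, IsConjOf M K → D ≤ K → normalizer (D : Set G) ≤ K
  · exact exists_pair_of_controlled h hB hgood
  push Not at hgood
  obtain ⟨D₁, hD₁, hD₁1, hD₁g, K₁, hK₁, hD₁K₁, hNK₁⟩ := hgood
  obtain ⟨D, ⟨hD, hD1, hDg, K, hK, hDK, hNK⟩, hmax⟩ := Set.exists_max_image
    {D : Subgroup G | IsPGroup p D ∧ D ≠ ⊥ ∧ gen B D = D ∧
      ∃ K, IsConjOf M K ∧ D ≤ K ∧ ¬ normalizer (D : Set G) ≤ K}
    (fun D => Nat.card D) (Set.toFinite _) ⟨D₁, hD₁, hD₁1, hD₁g, K₁, hK₁, hD₁K₁, hNK₁⟩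
  have hbig : ∀ E : Subgroup G, IsPGroup p E → E ≠ ⊥ → gen B E = E → Nat.card D < Nat.card E →
      ∀ L, IsConjOf M L → E ≤ L → normalizer (E : Set G) ≤ L := fun E hE hE1 hEg hlt L hL hEL => by
    by_contra hne
    exact absurd (hmax E ⟨hE, hE1, hEg, L, hL, hEL, hne⟩) (not_le.mpr hlt)
  have hKne : K ≠ ⊤ := by
    obtain ⟨g, rfl⟩ := hK
    exact fun e => h.ne_top (eq_top_of_card_eq M (by rw [← card_cj g M, e, card_top]))
  have hNne : normalizer (D : Set G) ≠ ⊤ := fun e => by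
    haveI : D.Normal := normalizer_eq_top_iff.mp e
    exact hD1 (le_bot_iff.mp (h.core ▸ le_sSup ⟨inferInstance, hD⟩))
  -- a Sylow subgroup of the normalizer inside `K`
  obtain ⟨S, hDS, hSK⟩ := h.exists_sylow_le hK hD hDK
  set D' := gen B ((S : Subgroup G) ⊓ normalizer (D : Set G)) with hD'
  have hDD' : D < D' := by
    refine lt_of_le_of_ne (hDg.ge.trans (gen_mono (le_inf hDS le_normalizer))) fun e => hNK ?_
    have hSN := (gen_eq_of_inf_normalizer S.isPGroup' e.symm).2
    obtain ⟨g, rfl⟩ := hK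
    obtain ⟨c, hc⟩ := MulAction.exists_smul_eq G T S
    have hS : (S : Subgroup G) = cj c T := by rw [← hc]; rfl
    have hgc : cj g M = cj c M := h.conj_unique S ⟨g, rfl⟩ ⟨c, rfl⟩ hSK (hS ▸ cj_mono h.le)
    rw [hgc]
    have h2 : cj c⁻¹ (normalizer (D : Set G)) ≤ M := by
      refine h.maximal _ ?_ fun e2 => hNne ?_
      · rw [← cj_inv_cj c (T : Subgroup G), ← hS]; exact cj_mono hSN
      · exact eq_top_of_card_eq _ (by rw [← card_cj c⁻¹, e2, card_top])
    have := cj_mono (g := c) h2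
    rwa [cj_cj, mul_inv_cancel, cj_one] at this
  have hD'p : IsPGroup p D' := (S.isPGroup'.to_le inf_le_left).to_le (gen_le _ _)
  have hD'K : D' ≤ K := (gen_le _ _).trans (inf_le_left.trans hSK)
  have hcardD' : Nat.card D < Nat.card D' :=
    Set.ncard_lt_ncard (SetLike.coe_ssubset_coe.mpr hDD') (Set.toFinite _)
  have hD'1 : D' ≠ ⊥ := ne_bot_of_le_ne_bot hD1 hDD'.le
  obtain ⟨SN, hSN⟩ := ((S.isPGroup'.to_le (inf_le_left : (S : Subgroup G) ⊓ normalizer (D : Set G) ≤ S)).comap_subtype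
    (K := normalizer (D : Set G))).exists_le_sylow
  set P₀ := (SN : Subgroup (normalizer (D : Set G))).map (normalizer (D : Set G)).subtype with hP₀
  have hP₀p : IsPGroup p P₀ := SN.isPGroup'.map _
  have hD'P₀ : D' ≤ P₀ := (gen_le _ _).trans fun x hx => ⟨⟨x, hx.2⟩, hSN hx, rfl⟩
  obtain ⟨S', K', hP₀S', hS'K', hK'⟩ := h.exists_sylow_conj hP₀p
  obtain rfl : K = K' := eq_of_shared h B (Nat.card D) hbig hD'p hD'1 (gen_gen _ _) hcardD' hK hK' hD'K
    (hD'P₀.trans (hP₀S'.trans hS'K'))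
  -- a minimal subgroup over `P₀` outside `K`
  obtain ⟨P, ⟨hP₀P, hPN, hPK⟩, hmin⟩ := Set.exists_min_image
    {P : Subgroup G | P₀ ≤ P ∧ P ≤ normalizer (D : Set G) ∧ ¬ P ≤ K} (fun P => Nat.card P) (Set.toFinite _)
    ⟨normalizer (D : Set G), map_subtype_le _, le_rfl, hNK⟩
  set TP := P₀.subgroupOf P with hTPdef
  have hTPmap : TP.map P.subtype = P₀ := by rw [hTPdef, subgroupOf_map_subtype, inf_eq_left.2 hP₀P]
  let TS : Sylow p P :=
    { toSubgroup := TP
      isPGroup' := hP₀p.comap_subtype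
      is_maximal' := fun {Q} hQ hle => by
        refine le_antisymm (fun y hy => ?_) hle
        have hQN : (Q.map P.subtype).subgroupOf (normalizer (D : Set G)) = (SN : Subgroup _) :=
          SN.is_maximal' (hQ.map _).comap_subtype fun z hz =>
            ⟨⟨_, hP₀P ⟨z, hz, rfl⟩⟩, hle (show (⟨_, hP₀P ⟨z, hz, rfl⟩⟩ : P) ∈ TP from ⟨z, hz, rfl⟩), rfl⟩
        exact ⟨⟨(y : G), hPN y.2⟩, hQN.le ⟨y, hy, rfl⟩, rfl⟩ }
  set K₀ := K.subgroupOf P with hK₀
  have hK₀ne : K₀ ≠ ⊤ := fun e => hPK (subgroupOf_eq_top.1 e)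
  have hmaxP : ∀ X : Subgroup P, TP ≤ X → X ≠ ⊤ → X ≤ K₀ := by
    intro X hTX hX y hy
    by_contra hyK
    have hXle : X.map P.subtype ≤ P := map_subtype_le X
    refine hX (map_injective P.subtype_injective ?_)
    rw [← MonoidHom.range_eq_map, range_subtype]
    refine eq_of_le_of_card_ge hXle (hmin _ ⟨?_, hXle.trans hPN, fun hle => hyK (hle ⟨y, hy, rfl⟩)⟩)
    rw [← hTPmap]; exact map_mono hTX
  -- the core of `P` and the module `U`
  set R := Cfsg.pCore p P with hR
  haveI : R.Normal := CfsgLib.LocalStructure.pCore_normal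
  set Rg := R.map P.subtype with hRg
  have hRT : R ≤ TP := CfsgLib.PLocal.pCore_le_sylow TS
  have hRP₀ : Rg ≤ P₀ := by rw [← hTPmap]; exact map_mono hRT
  set U := fix σ Rg with hUdef
  have hU : ∀ g ∈ P, ∀ u ∈ U, σ g u ∈ U := by
    rintro g hg u hu _ ⟨r, hr, rfl⟩
    show σ (r : G) (σ g u) = σ g u
    have := hu ((g⁻¹ * r * g : G)) ⟨⟨g, hg⟩⁻¹ * r * ⟨g, hg⟩, by
      simpa using (inferInstance : R.Normal).conj_mem r hr (⟨g, hg⟩⁻¹ : P), rfl⟩
    rw [← apply_mul, show (r : G) * g = g * (g⁻¹ * r * g) by group, apply_mul, this]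
  have hfixS' : fix σ (S' : Subgroup G) ≤ U := fix_anti σ (hRP₀.trans hP₀S')
  set N := (onSub σ P U hU).ker with hN
  set π := QuotientGroup.mk' N with hπ
  have hNK₀ : N ≤ K₀ := fun n hn => h.cent_conj S' hK hS'K' fun v hv =>
    congrArg Subtype.val (DFunLike.congr_fun (MonoidHom.mem_ker.mp hn) (⟨v, hfixS' hv⟩ : U))
  have hRN : R ≤ N := fun r hr => MonoidHom.mem_ker.mpr (AddMonoidHom.ext fun u =>
    Subtype.ext (u.2 (r : G) ⟨r, hr, rfl⟩))
  -- normal subgroups inside `K₀` meet the Sylow subgroup in the core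
  have hfrat : ∀ Q : Subgroup P, Q.Normal → Q ≤ K₀ → Q ⊓ TP ≤ R := by
    intro Q hQn hQ
    haveI := hQn
    have hsup := CfsgLib.PLocal.normalizer_inf_sylow_sup TS Q
    have hQT : TP ≤ normalizer ((Q ⊓ TP : Subgroup P) : Set P) := fun t ht =>
      mem_normalizer_iff.mpr fun y => by
        rw [mem_inf, mem_inf, ← mem_normalizer_iff.mp (le_normalizer ht) y]
        exact and_congr_left fun _ => ⟨fun hy => hQn.conj_mem y hy t, fun hy => by
          simpa [mul_assoc] using hQn.conj_mem _ hy t⁻¹⟩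
    by_cases htop : normalizer ((Q ⊓ TP : Subgroup P) : Set P) = ⊤
    · haveI : (Q ⊓ TP).Normal := normalizer_eq_top_iff.mp htop
      exact le_sSup ⟨inferInstance, (TS.isPGroup' : IsPGroup p TP).to_le inf_le_right⟩
    · exact absurd (top_le_iff.mp (hsup ▸ sup_le (hmaxP _ hQT htop) hQ)) hK₀ne
  -- the setting on `U`
  let T' : Sylow p (P ⧸ N) := TS.mapSurjective (f := π) (QuotientGroup.mk'_surjective N)
  have hTKN : TP ≤ K₀ := hmaxP TP le_rfl fun e => hPK fun y hy =>
    hS'K' (hP₀S' (hTPmap.le ⟨⟨y, hy⟩, e ▸ mem_top _, rfl⟩))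
  have hset : Setting (quotAct σ P U hU) p T' (K₀.map π) := by
    refine ⟨quotAct_injective, fun v => Subtype.ext (h.nil v), fun e => hK₀ne ?_, fun X hX hXne => ?_, ?_, ?_⟩
    · have := congrArg (Subgroup.comap π) e
      rwa [comap_map_eq, QuotientGroup.ker_mk', sup_eq_left.mpr hNK₀, comap_top] at this
    · have hcomap : X.comap π ≠ ⊤ := fun e => hXne
        (comap_injective (QuotientGroup.mk'_surjective N) (e.trans (comap_top π).symm))
      rw [← map_comap_eq_self_of_surjective (QuotientGroup.mk'_surjective N) X]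
      exact map_mono (hmaxP _ (fun t ht => hX ⟨t, ht, rfl⟩) hcomap)
    · set C := Cfsg.pCore p (P ⧸ N) with hC
      haveI : C.Normal := CfsgLib.LocalStructure.pCore_normal
      set Q := C.comap π with hQ
      have hNQ : N ≤ Q := fun n hn => by
        show π n ∈ C
        rw [show π n = 1 from (QuotientGroup.eq_one_iff n).mpr hn]
        exact one_mem C
      have hQK : Q ≤ K₀ := by
        have hCT : C ≤ (T' : Subgroup (P ⧸ N)) := CfsgLib.PLocal.pCore_le_sylow T'
        intro y hy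
        obtain ⟨t, ht, e⟩ := hCT hy
        have : t⁻¹ * y ∈ N := QuotientGroup.eq.mp e
        rw [show y = t * (t⁻¹ * y) by group]
        exact mul_mem (hTKN ht) (hNK₀ this)
      obtain ⟨k, hk⟩ : ∃ k, N.relIndex Q = p ^ k := by
        obtain ⟨k, hk⟩ := IsPGroup.iff_card.mp (CfsgLib.PLocal.isPGroup_pCore p (P ⧸ N))
        refine ⟨k, ?_⟩
        have e := relIndex_ker (K := Q) π
        have e' : Q.map π = C := map_comap_eq_self_of_surjective (QuotientGroup.mk'_surjective N) C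
        rw [e', show π.ker = N from QuotientGroup.ker_mk' N] at e
        exact e.trans hk
      have hQN : Q ≤ N := (CfsgLib.PLocal.le_inf_sylow_sup TS hNQ hk).trans
        (sup_le ((hfrat Q inferInstance hQK).trans hRN) le_rfl)
      rw [eq_bot_iff]
      intro c hc
      obtain ⟨y, rfl⟩ := QuotientGroup.mk'_surjective N c
      exact mem_bot.mpr ((QuotientGroup.eq_one_iff y).mpr (hQN hc))
    · intro c hc
      obtain ⟨g, rfl⟩ := QuotientGroup.mk'_surjective N c
      refine ⟨g, h.cent_conj S' hK hS'K' fun v hv => ?_, rfl⟩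
      exact congrArg Subtype.val (hc (⟨v, hfixS' hv⟩ : U) ((mem_fix_quotAct (H := TP)).mpr (by
        rw [hTPmap]; exact fix_anti σ hP₀S' hv)))
  -- a conjugate of `B` in `P₀` outside the core
  obtain ⟨g, hgP, hgR⟩ : ∃ g : G, cj g B ≤ P₀ ∧ ¬ cj g B ≤ Rg := by
    by_contra hall
    push Not at hall
    have hle : gen B P₀ ≤ Rg := sSup_le fun X ⟨hX, g, e⟩ => e ▸ hall g (e ▸ hX)
    have hgR : gen B Rg = gen B P₀ := gen_eq_of_le hle hRP₀
    have hge : D' ≤ gen B P₀ := (gen_gen B _).ge.trans (gen_mono hD'P₀)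
    have hPR : P ≤ normalizer (Rg : Set G) := fun y hy => mem_normalizer_iff.mpr fun z => by
      constructor
      · rintro ⟨r, hr, rfl⟩
        exact ⟨⟨y, hy⟩ * r * ⟨y, hy⟩⁻¹, (inferInstance : R.Normal).conj_mem r hr _, rfl⟩
      · rintro ⟨r, hr, e⟩
        refine ⟨(⟨y, hy⟩ : P)⁻¹ * r * ⟨y, hy⟩, by
          simpa using (inferInstance : R.Normal).conj_mem r hr (⟨y, hy⟩⁻¹ : P), ?_⟩
        show y⁻¹ * (r : G) * y = z
        rw [show (r : G) = y * z * y⁻¹ from e]; group
    refine hPK ((hPR.trans (normalizer_le_gen B Rg)).trans ?_)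
    rw [hgR]
    exact hbig _ (hP₀p.to_le (gen_le _ _)) (ne_bot_of_le_ne_bot hD'1 hge) (gen_gen _ _)
      (hcardD'.trans_le (card_le_of_le hge)) K hK ((gen_le _ _).trans (hP₀S'.trans hS'K'))
  set Bg := (cj g B).subgroupOf P with hBgdef
  have hBgmap : Bg.map P.subtype = cj g B := by
    rw [hBgdef, subgroupOf_map_subtype, inf_eq_left.2 (hgP.trans hP₀P)]
  have hBgN : ¬ Bg ≤ N := fun hle => hgR (by
    rw [← hBgmap]
    refine map_mono ((le_inf hle fun y hy => ?_).trans (hfrat N inferInstance hNK₀))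
    exact hgP hy)
  have hcard : Nat.card (P ⧸ N) < Nat.card G :=
    (Nat.card_le_card_of_surjective π (QuotientGroup.mk'_surjective N)).trans_lt
      ((card_le_of_le hPN).trans_lt (lt_of_le_of_ne
        (Nat.card_le_card_of_injective _ Subtype.val_injective) fun e => hNne (eq_top_of_card_eq _ e)))
  have hBs : IsStrict σ p (Bg.map P.subtype) := by rw [hBgmap]; exact hB.map_conj g
  obtain ⟨hbot, -, hexact, hstr⟩ := strict_image h.inj h.nil hBs hBgN fun A hA hq =>
    card_mul_le (fun v => Subtype.ext (h.nil v)) (fun A' hA' => hrec _ T' _ hcard hset A' hA') hA hq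
  obtain ⟨Lb, hLb⟩ := hrec _ T' _ hcard hset _ hstr
  obtain ⟨L, hL⟩ := exists_pair_lift h.inj hexact hbot hLb
  rw [hBgmap] at hL
  have := hL.conj g⁻¹
  rw [cj_inv_cj] at this
  exact ⟨_, this⟩

/-- Every strict offender is a root group of an `SL₂(q)` with natural module. -/
theorem exists_pair (h : Setting σ p T M) {B : Subgroup G} (hB : IsStrict σ p B) : ∃ L, IsPair σ B L := by
  induction hn : Nat.card G using Nat.strong_induction_on generalizing G V with
  | _ n ih =>
    subst hn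
    exact exists_pair_step h hB fun τ TX MX hlt hX A hA => ih _ hlt hX hA rfl

/-- Quadratic `p`-groups have weight at most `|V|`. -/
theorem Setting.card_mul_le (h : Setting σ p T M) {A : Subgroup G} (hA : IsPGroup p A)
    (hquad : ∀ a ∈ A, ∀ b ∈ A, ∀ v, σ a (σ b v - v) = σ b v - v) :
    Nat.card A * Nat.card (fix σ A) ≤ Nat.card V :=
  CfsgLib.FFRootGroups.card_mul_le h.nil (fun _ hB => exists_pair h hB) hA hquad

end CfsgLib.FFRootGroups
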